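import Mathlib.RingTheory.GradedAlgebra.HomogeneousLocalization
import Mathlib.RingTheory.Flat.EquationalCriterion
import Mathlib.RingTheory.GradedAlgebra.Basic

/-!
# `A_(p) → A_p` is flat and local when `p` misses every large degree

For a graded ring `A` and a prime `p` such that in every sufficiently large degree some element
lies outside `p`, the localization at `p` is flat over the homogeneous localization at `p`.
-/

set_option autoImplicit false

universe u

open DirectSum

namespace Groth.GrProjGor

variable {A : Type u} [CommRing A] (𝒜 : ℕ → AddSubgroup A) [GradedRing 𝒜] (p : Ideal A) [p.IsPrime]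

theorem val_mul_den (c : HomogeneousLocalization.NumDenSameDeg 𝒜 p.primeCompl) :
    (HomogeneousLocalization.mk c).val * algebraMap A (Localization p.primeCompl) (c.den : A) =
      algebraMap A (Localization p.primeCompl) (c.num : A) := by
  rw [HomogeneousLocalization.val_mk, Localization.mk_eq_mk']
  exact IsLocalization.mk'_spec (Localization p.primeCompl) (c.num : A) ⟨_, c.den_mem⟩

theorem val_sum {κ : Type*} (s : Finset κ) (g : κ → HomogeneousLocalization.AtPrime 𝒜 p) :
    (∑ i ∈ s, g i).val = ∑ i ∈ s, (g i).val :=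
  map_sum (algebraMap (HomogeneousLocalization.AtPrime 𝒜 p) (Localization p.primeCompl)) g s

open Classical in
theorem flat_atPrime (D : ℕ) (hD : ∀ d : ℕ, D ≤ d → ∃ f ∈ 𝒜 d, f ∉ p) :
    Module.Flat (HomogeneousLocalization.AtPrime 𝒜 p) (Localization p.primeCompl) := by
  let ψ := algebraMap A (Localization p.primeCompl)
  rw [Module.Flat.iff_forall_isTrivialRelation]
  intro l c x hrel
  choose nd hnd using fun i => HomogeneousLocalization.mk_surjective (c i)
  let s : A := ∏ i, ((nd i).den : A)
  let E : ℕ := ∑ i, (nd i).deg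
  let a : Fin l → A := fun i => (nd i).num * ∏ j ∈ Finset.univ.erase i, ((nd j).den : A)
  have hs : s ∉ p := fun h => by
    obtain ⟨i, -, hi⟩ := (Ideal.IsPrime.prod_mem_iff (hp := ‹p.IsPrime›)).1 h
    exact (nd i).den_mem hi
  have ha : ∀ i, a i ∈ 𝒜 E := fun i => by
    show a i ∈ 𝒜 (∑ i, (nd i).deg)
    rw [← Finset.add_sum_erase _ _ (Finset.mem_univ i)]
    exact SetLike.mul_mem_graded (nd i).num.2 (SetLike.prod_mem_graded _ _ _ fun j _ => (nd j).den.2)
  have hca : ∀ i, (c i).val * ψ s = ψ (a i) := fun i => by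
    show (c i).val * ψ (∏ j, ((nd j).den : A)) = ψ _
    rw [← Finset.mul_prod_erase _ _ (Finset.mem_univ i), map_mul, map_mul, ← mul_assoc, ← hnd i]
    exact congrArg (· * _) (val_mul_den 𝒜 p (nd i))
  obtain ⟨t, ht⟩ := IsLocalization.exist_integer_multiples p.primeCompl Finset.univ x
  choose b hb using fun i => ht i (Finset.mem_univ i)
  have hb' : ∀ i, x i * ψ (t : A) = ψ (b i) := fun i => by
    show x i * algebraMap A _ (t : A) = algebraMap A _ (b i)
    rw [hb i, Algebra.smul_def, mul_comm]
  have hu : ∀ {z : A}, z ∉ p → IsUnit (ψ z) := fun {z} hz =>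
    IsLocalization.map_units (Localization p.primeCompl) (⟨z, hz⟩ : p.primeCompl)
  have h0 : ψ (∑ i, a i * b i) = 0 := by
    rw [map_sum]
    have : ∑ i, ψ (a i * b i) = (∑ i, c i • x i) * (ψ s * ψ (t : A)) := by
      rw [Finset.sum_mul]
      refine Finset.sum_congr rfl fun i _ => ?_
      rw [map_mul, ← hca, ← hb', Algebra.smul_def, HomogeneousLocalization.algebraMap_apply]
      ring
    rw [this, hrel, zero_mul]
  obtain ⟨w, hw⟩ := (IsLocalization.map_eq_zero_iff p.primeCompl (Localization p.primeCompl) _).1 h0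
  let b' : Fin l → A := fun i => (w : A) * b i
  have hb0 : ∑ i, a i * b' i = 0 := by
    rw [← hw, Finset.mul_sum]
    exact Finset.sum_congr rfl fun i _ => by simp only [b']; ring
  have hcomp : ∀ j, ∑ i, a i * (decompose 𝒜 (b' i) j : A) = 0 := fun j => by
    have h1 : ∀ i, a i * (decompose 𝒜 (b' i) j : A) = (decompose 𝒜 (a i * b' i) (E + j) : A) :=
      fun i => (coe_decompose_mul_add_of_left_mem 𝒜 (ha i)).symm
    simp only [h1]
    rw [← AddSubmonoidClass.coe_finsetSum, ← DFinsupp.finsetSum_apply, ← decompose_sum, hb0,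
      decompose_zero]
    rfl
  let J : Finset ℕ := Finset.univ.biUnion fun i => (decompose 𝒜 (b' i)).support
  have hdec : ∀ i, ∑ j ∈ J, (decompose 𝒜 (b' i) j : A) = b' i := fun i => by
    conv_rhs => rw [← sum_support_decompose 𝒜 (b' i)]
    refine (Finset.sum_subset (fun j hj => Finset.mem_biUnion.2 ⟨i, Finset.mem_univ i, hj⟩) ?_).symm
    intro j _ hj
    rw [DFinsupp.notMem_support_iff.1 hj]
    rfl
  choose U hU hUp using fun j : ℕ => hD (j + D) (Nat.le_add_left D j)
  obtain ⟨F, hF, hFp⟩ := hD D le_rfl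
  let q : A := F * (w : A) * (t : A)
  have hq : q ∉ p := fun h => by
    rcases (‹p.IsPrime›.mem_or_mem h) with h | h
    · rcases (‹p.IsPrime›.mem_or_mem h) with h | h
      · exact hFp h
      · exact w.2 h
    · exact t.2 h
  let α : Fin l → ℕ → HomogeneousLocalization.NumDenSameDeg 𝒜 p.primeCompl := fun i j =>
    { deg := j + D
      num := ⟨(decompose 𝒜 (b' i) j : A) * F, SetLike.mul_mem_graded (decompose 𝒜 (b' i) j).2 hF⟩
      den := ⟨U j, hU j⟩
      den_mem := hUp j }
  have hα : ∀ i j, (HomogeneousLocalization.mk (α i j)).val * ψ (U j) =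
      ψ ((decompose 𝒜 (b' i) j : A) * F) := fun i j => val_mul_den 𝒜 p (α i j)
  let e := J.equivFin
  refine ⟨J.card, fun i k => HomogeneousLocalization.mk (α i (e.symm k)),
    fun k => IsLocalization.mk' (Localization p.primeCompl) (U (e.symm k)) (⟨q, hq⟩ : p.primeCompl), fun i => ?_,
    fun k => ?_⟩
  · apply (hu hq).mul_right_cancel
    have h1 : ∀ k, HomogeneousLocalization.mk (α i (e.symm k)) •
        IsLocalization.mk' (Localization p.primeCompl) (U (e.symm k)) (⟨q, hq⟩ : p.primeCompl) * ψ q =
        ψ ((decompose 𝒜 (b' i) (e.symm k : ℕ) : A) * F) := fun k => by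
      rw [Algebra.smul_def, HomogeneousLocalization.algebraMap_apply, mul_assoc,
        show IsLocalization.mk' (Localization p.primeCompl) (U (e.symm k)) (⟨q, hq⟩ : p.primeCompl) * ψ q = ψ (U (e.symm k)) from
          IsLocalization.mk'_spec _ _ _]
      exact hα i _
    rw [Finset.sum_mul, Finset.sum_congr rfl fun k _ => h1 k, ← map_sum, ← Finset.sum_mul,
      Equiv.sum_comp e.symm fun j : J => (decompose 𝒜 (b' i) (j : ℕ) : A),
      Finset.sum_coe_sort J fun j => (decompose 𝒜 (b' i) j : A), hdec i]
    simp only [q, b']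
    rw [map_mul, map_mul, map_mul, map_mul, ← hb' i]
    ring
  · apply HomogeneousLocalization.val_injective
    rw [val_sum, HomogeneousLocalization.val_zero]
    apply ((hu hs).mul (hu (hUp (e.symm k)))).mul_right_cancel
    rw [zero_mul, Finset.sum_mul]
    have h1 : ∀ i, (c i * HomogeneousLocalization.mk (α i (e.symm k))).val * (ψ s * ψ (U (e.symm k))) =
        ψ (a i * ((decompose 𝒜 (b' i) (e.symm k : ℕ) : A) * F)) := fun i => by
      rw [HomogeneousLocalization.val_mul, map_mul, ← hca, ← hα]
      ring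
    rw [Finset.sum_congr rfl fun i _ => h1 i, ← map_sum]
    simp only [← mul_assoc]
    rw [← Finset.sum_mul, hcomp, zero_mul, map_zero]

theorem isLocalHom_atPrime :
    IsLocalHom (algebraMap (HomogeneousLocalization.AtPrime 𝒜 p) (Localization p.primeCompl)) :=
  ⟨fun f hf => (HomogeneousLocalization.isUnit_iff_isUnit_val 𝒜 p f).1 hf⟩

end Groth.GrProjGor
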